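import Groth.Agent.Sga2lef.H103.GrSys
import Mathlib.RingTheory.Finiteness.Basic
import Mathlib.RingTheory.Noetherian.Basic

/-!
# Homogeneous presentations

`A` Noetherian graded (`GrRing g cA`), `N` a graded module: graded finitely generated submodules have homogeneous
generators (`exists_homogeneous_gens`); a module generated by finitely many homogeneous elements of degrees `≥ 0` has
a finite homogeneous presentation (`exists_presentation`).

Author: helper80
-/

set_option autoImplicit false
universe u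

namespace Groth.Agent.Lefx.H80.GrPres

open Groth.Agent.Sga2lef.H103.GrSys

variable {A : Type*} [CommRing A] {cA : ℤ → A →+ A} {N : Type*} [AddCommGroup N] [Module A N]
  {c : ℤ → N →+ N}

/-- Graded finitely generated submodules have homogeneous generators. -/
theorem exists_homogeneous_gens (h : Gr c) (S : Submodule A N) (hS : ∀ a, ∀ z ∈ S, c a z ∈ S) (hfg : S.FG) :
    ∃ (q : ℕ) (d : Fin q → ℤ) (β : Fin q → N), (∀ j, c (d j) (β j) = β j) ∧ (∀ j, β j ∈ S) ∧
      Submodule.span A (Set.range β) = S := by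
  classical
  obtain ⟨T, hT⟩ := hfg
  choose s hs using h.fin
  let I := Σ z : T, (s z.1)
  have hI : Fintype I := inferInstance
  let e := Fintype.equivFin I
  refine ⟨Fintype.card I, fun j => (e.symm j).2.1, fun j => c (e.symm j).2.1 (e.symm j).1.1,
    fun j => h.self _ _, fun j => hS _ _ (by rw [← hT]; exact Submodule.subset_span (e.symm j).1.2), ?_⟩
  apply le_antisymm
  · rw [Submodule.span_le]
    rintro _ ⟨j, rfl⟩
    exact hS _ _ (by rw [← hT]; exact Submodule.subset_span (e.symm j).1.2)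
  · conv_lhs => rw [← hT]
    rw [Submodule.span_le]
    intro z hz
    rw [SetLike.mem_coe, ← hs z]
    refine Submodule.sum_mem _ fun a ha => Submodule.subset_span ⟨e ⟨⟨z, hz⟩, ⟨a, ha⟩⟩, ?_⟩
    change c (e.symm (e ⟨⟨z, hz⟩, ⟨a, ha⟩⟩)).2.1 (e.symm (e ⟨⟨z, hz⟩, ⟨a, ha⟩⟩)).1.1 = _
    rw [Equiv.symm_apply_apply]

/-- The shifted grading of `A^q`. -/
def shift (cA : ℤ → A →+ A) {q : ℕ} (d : Fin q → ℤ) (a : ℤ) : (Fin q → A) →+ (Fin q → A) where
  toFun v j := cA (a - d j) (v j)
  map_zero' := by funext j; exact map_zero _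
  map_add' v w := by funext j; exact map_add _ _ _

theorem gr_shift (hA : Gr cA) {q : ℕ} (d : Fin q → ℤ) : Gr (shift cA d) where
  self a z := by funext j; exact hA.self _ _
  ne a b z hab := by funext j; exact hA.ne _ _ _ (by omega)
  fin z := by
    classical
    choose s hs0 hs using fun j => hA.exists_sum (z j)
    let T : Finset ℤ := Finset.univ.biUnion fun j => (s j).image (· + d j)
    refine ⟨T, ?_⟩
    funext j
    rw [Finset.sum_apply]
    change ∑ a ∈ T, cA (a - d j) (z j) = z j
    have h1 : ∑ a ∈ (s j).image (· + d j), cA (a - d j) (z j) = z j := by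
      rw [Finset.sum_image (fun a _ b _ hab => by simpa using hab)]
      simp only [add_sub_cancel_right]
      exact hs j
    conv_rhs => rw [← h1]
    symm
    refine Finset.sum_subset (Finset.subset_biUnion_of_mem (fun j => (s j).image (· + d j)) (Finset.mem_univ j)) fun a _ ha => ?_
    apply hs0
    intro h2
    exact ha (Finset.mem_image.2 ⟨_, h2, by ring⟩)

/-- **Homogeneous presentations.** -/
theorem exists_presentation [IsNoetherianRing A] {ι : Type*} {g : ι → A} (hA : GrRing g cA) (h : GrMod cA c)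
    (S : Submodule A N) (hS : ∀ a, ∀ z ∈ S, c a z ∈ S) (hneg : ∀ a z, a < 0 → z ∈ S → c a z = 0) (hfg : S.FG) :
    ∃ (q : ℕ) (d : Fin q → ℕ) (β : Fin q → N) (q' : ℕ) (e : Fin q' → ℕ) (K : Fin q' → Fin q → A),
      (∀ j, c (d j) (β j) = β j) ∧ (∀ j, β j ∈ S) ∧ (∀ z ∈ S, ∃ a : Fin q → A, z = ∑ j, a j • β j) ∧
      (∀ l j, cA ((e l : ℤ) - d j) (K l j) = K l j) ∧ (∀ l, ∑ j, K l j • β j = 0) ∧
      ∀ a : Fin q → A, ∑ j, a j • β j = 0 → ∃ c : Fin q' → A, ∀ j, a j = ∑ l, c l * K l j := by
  classical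
  obtain ⟨q, d, β, hd, hβ, hsp⟩ := exists_homogeneous_gens h.toGr S hS hfg
  -- degrees in ℕ
  have hd' : ∀ j, c ((d j).toNat : ℤ) (β j) = β j := by
    intro j
    rcases lt_or_ge (d j) 0 with hj | hj
    · rw [← hd j, hneg _ _ hj (hβ j), map_zero]
    · rw [Int.toNat_of_nonneg hj]; exact hd j
  let d' : Fin q → ℕ := fun j => (d j).toNat
  let φ : (Fin q → A) →ₗ[A] N := Fintype.linearCombination A β
  have hφ : ∀ v, φ v = ∑ j, v j • β j := fun v => Fintype.linearCombination_apply A β v
  have hker : ∀ a, ∀ v ∈ LinearMap.ker φ, shift cA (fun j => (d' j : ℤ)) a v ∈ LinearMap.ker φ := by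
    intro a v hv
    rw [LinearMap.mem_ker, hφ] at hv ⊢
    have h1 := congrArg (c a) hv
    rw [map_zero, map_sum] at h1
    rw [← h1]
    exact Finset.sum_congr rfl fun j _ => (h.comp_smul_right hA.toGr (hd' j) a (v j)).symm
  obtain ⟨q', e, K, he, hK, hKsp⟩ := exists_homogeneous_gens (gr_shift hA.toGr fun j => (d' j : ℤ))
    (LinearMap.ker φ) hker (IsNoetherian.noetherian _)
  refine ⟨q, d', β, q', fun l => (e l).toNat, K, hd', hβ, fun z hz => ?_, fun l j => ?_, fun l => ?_,
    fun a ha => ?_⟩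
  · rw [← hsp, ← Fintype.range_linearCombination] at hz
    obtain ⟨a, rfl⟩ := hz
    exact ⟨a, Fintype.linearCombination_apply A β a⟩
  · have h1 : cA (e l - d' j) (K l j) = K l j := congrFun (he l) j
    rcases lt_or_ge (e l) 0 with hl | hl
    · have h2 : K l j = 0 := by
        rw [← h1]
        exact hA.neg _ _ (by omega)
      rw [h2, map_zero]
    · rw [Int.toNat_of_nonneg hl]; exact h1
  · rw [← hφ]; exact hK l
  · have h1 : a ∈ LinearMap.ker φ := by rw [LinearMap.mem_ker, hφ]; exact ha
    rw [← hKsp, ← Fintype.range_linearCombination] at h1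
    obtain ⟨b, rfl⟩ := h1
    refine ⟨b, fun j => ?_⟩
    rw [Fintype.linearCombination_apply, Finset.sum_apply]
    rfl

end Groth.Agent.Lefx.H80.GrPres
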