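import Groth.Agent.Pi1C.TwistSec
import Groth.Agent.CohqB.HomSheafQCoh
import Groth.Agent.Fdesc.LocGen

/-!
# Twisted sections of modules and twisted homomorphisms (for S3381)

`TSec D F a`: families `z i ∈ Γ(F, U i)` with `z i = (x_j / x_i) ^ a • z j`. Extension of local sections
(`exists_tsec`), twisted sections vanishing on a chart (`exists_pow_smul_eq_zero_of_apply`), twisted homomorphisms
(`TSec D (homSheaf G H) N`) act on twisted sections (`comp_mem`).

Author: helper80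
-/

set_option autoImplicit false
universe u

open CategoryTheory CategoryTheory.Limits AlgebraicGeometry TopologicalSpace Opposite

namespace Groth.Agent.Lefx.H80.TwSec

open Groth.Agent Groth.Agent.Fdesc Groth.Agent.Fdesc.LocGen Groth.Agent.VarietyB.ProjGlue
open Groth.Agent.Pi1C.TwistSec hiding res res_res res_self

variable {X : Scheme.{u}} {I : Type} (D : CoordData X I) (F : X.Modules)

/-- Twisted sections of degree `a` of a module. -/
noncomputable def TSec (a : ℤ) : AddSubgroup (∀ i, Γ(F, D.U i)) where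
  carrier := {z | ∀ i j, LocGen.res F inf_le_left (z i) =
    ((u D i j ^ a : Γ(X, D.U i ⊓ D.U j)ˣ) : Γ(X, D.U i ⊓ D.U j)) • LocGen.res F inf_le_right (z j)}
  zero_mem' i j := by
    rw [Pi.zero_apply, Pi.zero_apply, map_zero, map_zero, smul_zero]
  add_mem' {e e'} h h' i j := by
    rw [Pi.add_apply, Pi.add_apply, map_add, map_add, h i j, h' i j, smul_add]
  neg_mem' {e} h i j := by
    rw [Pi.neg_apply, Pi.neg_apply, map_neg, map_neg, h i j, smul_neg]

variable {F}

theorem mem_TSec {a : ℤ} {z : ∀ i, Γ(F, D.U i)} : z ∈ TSec D F a ↔ ∀ i j, LocGen.res F inf_le_left (z i) =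
    ((u D i j ^ a : Γ(X, D.U i ⊓ D.U j)ˣ) : Γ(X, D.U i ⊓ D.U j)) • LocGen.res F inf_le_right (z j) := Iff.rfl

/-- The product with a twisted function. -/
theorem smul_mem {a b : ℤ} {e : ∀ i, Γ(X, D.U i)} {z : ∀ i, Γ(F, D.U i)} (h : e ∈ Sec D a)
    (h' : z ∈ TSec D F b) : (fun i => e i • z i) ∈ TSec D F (a + b) := by
  intro i j
  rw [res_smul, res_smul, h' i j]
  have h1 : ores inf_le_left (e i) = ((u D i j ^ a : Γ(X, D.U i ⊓ D.U j)ˣ) : Γ(X, D.U i ⊓ D.U j)) *
    ores inf_le_right (e j) := h i j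
  rw [h1, zpow_add, Units.val_mul, smul_smul, smul_smul]
  congr 1
  ring

/-- Morphisms act on twisted sections. -/
theorem app_mem {G : X.Modules} (φ : F ⟶ G) {a : ℤ} {z : ∀ i, Γ(F, D.U i)} (h : z ∈ TSec D F a) :
    (fun i => φ.app (D.U i) (z i)) ∈ TSec D G a := by
  intro i j
  rw [← app_res, ← app_res, h i j, Scheme.Modules.Hom.app_smul]

section affine

variable (hU : ∀ i, IsAffineOpen (D.U i)) (hb : ∀ i j, X.basicOpen (D.f i j) = D.U i ⊓ D.U j)
  (hF : Coh.IsQCoh F)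

include hF in
omit I D in
theorem exists_pow_smul_eq_zero' {V W : X.Opens} (hV : IsAffineOpen V) (g : Γ(X, V)) (z : Γ(F, V))
    (hW : W ≤ V) (hg : X.basicOpen g ≤ W) (h : LocGen.res F hW z = 0) : ∃ M : ℕ, g ^ M • z = 0 := by
  refine (Ega1.QCohLoc.isLocAt_of_isQCoh hF hV g).inj z ?_
  change LocGen.res F (X.basicOpen_le g) z = 0
  rw [← res_res F hW hg, h, map_zero]

include hU hb hF in
/-- A section over `U j ⊓ U i` extends to `U j` after multiplication by a power of `f j i`. -/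
theorem exists_extend (i j : I) (e : Γ(F, D.U j ⊓ D.U i)) :
    ∃ (N : ℕ) (e' : Γ(F, D.U j)),
      LocGen.res F (inf_le_left : D.U j ⊓ D.U i ≤ D.U j) e' =
        (ores (inf_le_left : D.U j ⊓ D.U i ≤ D.U j) (D.f j i)) ^ N • e := by
  obtain ⟨N, e', h⟩ := (Ega1.QCohLoc.isLocAt_of_isQCoh hF (hU j) (D.f j i)).surj
    (LocGen.res F (hb j i).le e)
  refine ⟨N, e', ?_⟩
  have h1 : LocGen.res F (X.basicOpen_le (D.f j i)) e' =
      ores (X.basicOpen_le (D.f j i)) (D.f j i) ^ N • LocGen.res F (hb j i).le e := h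
  have h2 := congrArg (LocGen.res F (hb j i).ge) h1
  rw [res_res, res_smul, map_pow, ores_ores, res_res, res_refl] at h2
  exact h2

include hU hb hF in
/-- Sections on a chart extend to twisted sections. -/
theorem exists_tsec [Finite I] (i : I) (e : Γ(F, D.U i)) :
    ∃ (N : ℕ) (σ : ∀ j, Γ(F, D.U j)), σ ∈ TSec D F N ∧ σ i = e := by
  classical
  have := Fintype.ofFinite I
  choose N e₁ h₁ using fun j => exists_extend D hU hb hF i j (LocGen.res F inf_le_right e)
  let N₀ : ℕ := ∑ j, N j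
  have hN₀ : ∀ j, N j ≤ N₀ := fun j => Finset.single_le_sum (fun _ _ => Nat.zero_le _) (Finset.mem_univ j)
  obtain ⟨e₂, h₂⟩ : ∃ e₂ : ∀ j, Γ(F, D.U j), ∀ j,
      LocGen.res F (inf_le_left : D.U j ⊓ D.U i ≤ D.U j) (e₂ j) =
        ores (inf_le_left : D.U j ⊓ D.U i ≤ D.U j) (D.f j i) ^ N₀ • LocGen.res F inf_le_right e := by
    refine ⟨fun j => D.f j i ^ (N₀ - N j) • e₁ j, fun j => ?_⟩
    rw [res_smul, map_pow, h₁, smul_smul, ← pow_add, Nat.sub_add_cancel (hN₀ j)]
  have haff : ∀ j l, IsAffineOpen (D.U j ⊓ D.U l) := fun j l => by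
    rw [← hb]; exact (hU j).basicOpen _
  have h₃ : ∀ j l, ∃ M : ℕ, (ores (inf_le_left : D.U j ⊓ D.U l ≤ D.U j) (D.f j i)) ^ M •
      (LocGen.res F (inf_le_left : D.U j ⊓ D.U l ≤ D.U j) (e₂ j) -
        ores (inf_le_left : D.U j ⊓ D.U l ≤ D.U j) (D.f j l) ^ N₀ •
          LocGen.res F (inf_le_right : D.U j ⊓ D.U l ≤ D.U l) (e₂ l)) = 0 := by
    intro j l
    have hj : D.U j ⊓ D.U l ⊓ D.U i ≤ D.U j := inf_le_left.trans inf_le_left
    have hl : D.U j ⊓ D.U l ⊓ D.U i ≤ D.U l := inf_le_left.trans inf_le_right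
    have hi : D.U j ⊓ D.U l ⊓ D.U i ≤ D.U i := inf_le_right
    have key : ∀ j' (hj' : D.U j ⊓ D.U l ⊓ D.U i ≤ D.U j'),
        LocGen.res F hj' (e₂ j') = ores hj' (D.f j' i) ^ N₀ • LocGen.res F hi e := by
      intro j' hj'
      have h := congrArg (LocGen.res F (le_inf hj' hi)) (h₂ j')
      rwa [res_smul, map_pow, res_res, ores_ores, res_res] at h
    refine exists_pow_smul_eq_zero' hF (haff j l) _ _
      (inf_le_left : D.U j ⊓ D.U l ⊓ D.U i ≤ D.U j ⊓ D.U l) ?_ ?_
    · refine le_inf (X.basicOpen_le _) ?_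
      change X.basicOpen (X.presheaf.map _ (D.f j i)) ≤ _
      rw [Scheme.basicOpen_res, hb]
      exact inf_le_right.trans inf_le_right
    · rw [map_sub, res_smul, map_pow, res_res, res_res, ores_ores, key j hj, key l hl, smul_smul, ← mul_pow]
      have h5 : ores hj (D.f j i) = ores hj (D.f j l) * ores hl (D.f l i) := res_f_mul D j l i hj hl
      rw [h5, sub_self]
  choose M hM using h₃
  let M₀ : ℕ := ∑ j, ∑ l, M j l
  have hM₀ : ∀ j l, M j l ≤ M₀ := fun j l =>
    (Finset.single_le_sum (f := fun l => M j l) (fun _ _ => Nat.zero_le _) (Finset.mem_univ l)).trans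
      (Finset.single_le_sum (f := fun j => ∑ l, M j l) (fun _ _ => Nat.zero_le _)
        (Finset.mem_univ j))
  refine ⟨N₀ + M₀, fun j => D.f j i ^ M₀ • e₂ j, ?_, ?_⟩
  · intro j l
    have h4 : (ores (inf_le_left : D.U j ⊓ D.U l ≤ D.U j) (D.f j i)) ^ M₀ •
      (LocGen.res F (inf_le_left : D.U j ⊓ D.U l ≤ D.U j) (e₂ j) -
        ores (inf_le_left : D.U j ⊓ D.U l ≤ D.U j) (D.f j l) ^ N₀ •
          LocGen.res F (inf_le_right : D.U j ⊓ D.U l ≤ D.U l) (e₂ l)) = 0 := by
      rw [← Nat.sub_add_cancel (hM₀ j l), pow_add, mul_smul, hM, smul_zero]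
    rw [smul_sub, sub_eq_zero] at h4
    rw [res_smul, map_pow, h4, res_smul, map_pow]
    have h5 : ((u D j l ^ ((N₀ + M₀ : ℕ) : ℤ) : Γ(X, D.U j ⊓ D.U l)ˣ) : Γ(X, D.U j ⊓ D.U l)) =
        ores inf_le_left (D.f j l) ^ N₀ * ores inf_le_left (D.f j l) ^ M₀ := by
      rw [zpow_natCast, Units.val_pow_eq_pow_val, u_val, pow_add]
      rfl
    have h6 : ores (inf_le_left : D.U j ⊓ D.U l ≤ D.U j) (D.f j i) =
      ores (inf_le_left : D.U j ⊓ D.U l ≤ D.U j) (D.f j l) *
        ores (inf_le_right : D.U j ⊓ D.U l ≤ D.U l) (D.f l i) := D.f_mul j l i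
    rw [h5, h6, mul_pow, smul_smul, smul_smul]
    congr 1
    ring
  · have h7 := h₂ i
    rw [D.f_self, map_one, one_pow, one_smul] at h7
    have h8 : e₂ i = e := by
      have hle : D.U i ≤ D.U i ⊓ D.U i := le_inf le_rfl le_rfl
      have h := congrArg (LocGen.res F hle) h7
      rwa [res_res, res_res, res_refl, res_refl] at h
    change D.f i i ^ M₀ • e₂ i = e
    rw [D.f_self, one_pow, one_smul, h8]

include hU hb hF in
/-- A twisted section vanishing on the chart `i` is killed by a power of `x_i`. -/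
theorem exists_pow_smul_eq_zero_of_apply [Finite I] {a : ℤ} {σ : ∀ j, Γ(F, D.U j)}
    (hσ : σ ∈ TSec D F a) (i : I) (h : σ i = 0) : ∃ N : ℕ, ∀ j, D.f j i ^ N • σ j = 0 := by
  classical
  have := Fintype.ofFinite I
  have h1 : ∀ j, ∃ N : ℕ, D.f j i ^ N • σ j = 0 := by
    intro j
    refine exists_pow_smul_eq_zero' hF (hU j) (D.f j i) (σ j) (inf_le_left : D.U j ⊓ D.U i ≤ _)
      (hb j i).le ?_
    rw [hσ j i, h, map_zero, smul_zero]
  choose N hN using h1
  refine ⟨∑ j, N j, fun j => ?_⟩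
  have hle : N j ≤ ∑ j, N j := Finset.single_le_sum (fun _ _ => Nat.zero_le _) (Finset.mem_univ j)
  rw [← Nat.sub_add_cancel hle, pow_add, mul_smul, hN, smul_zero]

end affine

end Groth.Agent.Lefx.H80.TwSec
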